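import Groth.Agent.Lib.TameAbh21.CharZeroTame
import Groth.Agent.Lib.TameAbh21.Center
import Mathlib.RingTheory.Invariant.Galois
import Mathlib.FieldTheory.Galois.Basic

/-!
Galois extensions of order prime to the residue characteristic are tamely ramified.
-/

set_option autoImplicit false
set_option linter.style.haveILetI false
set_option linter.unusedSectionVars false

universe u

open IsLocalRing Pointwise

namespace GrothLib.TameGalois21

section Invariant

variable {A B : Type u} [CommRing A] [CommRing B] [Algebra A B] {G : Type u} [Group G] [Finite G]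
  [MulSemiringAction G B] [SMulCommClass G A B] [Algebra.IsInvariant A B G] (M : Ideal B) [M.IsMaximal]

/-- An element congruent to `1` at `M` and vanishing at the other conjugates. -/
theorem exists_conj_idempotent :
    ∃ c : B, c - 1 ∈ M ∧ ∀ g : G, g • M ≠ M → c ∈ g • M := by
  classical
  haveI := Fintype.ofFinite G
  have hsel : ∀ g : G, ∃ c : B, c ∉ M ∧ (g • M ≠ M → c ∈ g • M) := fun g => by
    by_cases hg : g • M = M
    · exact ⟨1, fun h => Ideal.IsMaximal.ne_top ‹_› ((Ideal.eq_top_iff_one M).mpr h), fun h => absurd hg h⟩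
    · haveI : (g • M).IsMaximal := Ideal.map_isMaximal_of_equiv (p := M) (MulSemiringAction.toRingEquiv G B g)
      by_contra hcon
      push_neg at hcon
      exact hg (Ideal.IsMaximal.eq_of_le inferInstance (Ideal.IsMaximal.ne_top inferInstance)
        fun x hx => by_contra fun hxM => (hcon x hxM).2 hx)
  choose c hc1 hc2 using hsel
  have hprod : (∏ g : G, c g) ∉ M := fun h => by
    obtain ⟨g, -, hg⟩ := (Ideal.IsMaximal.isPrime ‹M.IsMaximal›).prod_mem_iff.mp h
    exact hc1 g hg
  obtain ⟨d, m, hm, hdm⟩ := Ideal.IsMaximal.exists_inv ‹M.IsMaximal› hprod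
  refine ⟨d * ∏ g : G, c g, ?_, fun g hg => ?_⟩
  · rw [show d * ∏ g : G, c g - 1 = -m by rw [← hdm]; ring]
    exact M.neg_mem hm
  · rw [← Finset.mul_prod_erase Finset.univ c (Finset.mem_univ g)]
    exact Ideal.mul_mem_left _ _ (Ideal.mul_mem_right _ _ (hc2 g hg))

/-- Elements of the residue field fixed by the decomposition group come from the base. -/
theorem exists_eq_mul_card (x : B) (hx : ∀ g : G, g • M = M → g • x - x ∈ M) :
    ∃ a : A, algebraMap A B a - (Nat.card (MulAction.stabilizer G M) : B) * x ∈ M := by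
  classical
  haveI := Fintype.ofFinite G
  obtain ⟨c, hc1, hc2⟩ := exists_conj_idempotent (G := G) M
  have hinv : ∀ h : G, h • (∑ g : G, g • (x * c)) = ∑ g : G, g • (x * c) := fun h => by
    rw [Finset.smul_sum]
    simp_rw [smul_smul]
    exact Fintype.sum_equiv (Equiv.mulLeft h) _ _ fun _ => rfl
  obtain ⟨a, ha⟩ := Algebra.IsInvariant.isInvariant (A := A) _ hinv
  refine ⟨a, ?_⟩
  rw [ha, Nat.card_eq_fintype_card, Fintype.card_subtype, ← nsmul_eq_mul,
    ← Finset.sum_const x, Finset.sum_filter, ← Finset.sum_sub_distrib]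
  refine Ideal.sum_mem _ fun g _ => ?_
  by_cases hg : g • M = M
  · rw [if_pos (MulAction.mem_stabilizer_iff.mpr hg)]
    have h1 : g • c - 1 ∈ M := by
      have := Ideal.smul_mem_pointwise_smul g _ _ hc1
      rwa [hg, smul_sub, smul_one] at this
    rw [smul_mul', show g • x * g • c - x = (g • x - x) * g • c + x * (g • c - 1) by ring]
    exact M.add_mem (M.mul_mem_right _ (hx g hg)) (M.mul_mem_left _ h1)
  · rw [if_neg (fun h => hg (MulAction.mem_stabilizer_iff.mp h)), sub_zero, smul_mul']
    refine M.mul_mem_left _ ?_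
    have h1 := hc2 g⁻¹ (fun h => hg (by rw [inv_smul_eq_iff] at h; exact h.symm))
    have := Ideal.smul_mem_pointwise_smul g _ _ h1
    rwa [smul_inv_smul] at this

variable {P : Ideal A} [P.IsMaximal] [M.LiesOver P]

/-- The residue extension is separable when the decomposition group has invertible order. -/
theorem isSeparable_quotient [Module.Finite A B] (hcard : (Nat.card (MulAction.stabilizer G M) : A) ∉ P) :
    letI := Ideal.Quotient.field P
    letI := Ideal.Quotient.field M
    Algebra.IsSeparable (A ⧸ P) (B ⧸ M) := by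
  letI := Ideal.Quotient.field P
  letI := Ideal.Quotient.field M
  haveI : Module.Finite (A ⧸ P) (B ⧸ M) := Module.Finite.of_restrictScalars_finite A (A ⧸ P) (B ⧸ M)
  haveI : IsGalois (A ⧸ P) (B ⧸ M) := by
    refine IsGalois.of_fixedField_eq_bot _ _ (eq_bot_iff.mpr fun z hz => ?_)
    obtain ⟨x, rfl⟩ := Ideal.Quotient.mk_surjective z
    have hx : ∀ g : G, g • M = M → g • x - x ∈ M := fun g hg => by
      rw [← Ideal.Quotient.eq]
      exact hz ⟨Ideal.Quotient.stabilizerHom M P G ⟨g, MulAction.mem_stabilizer_iff.mpr hg⟩, trivial⟩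
    obtain ⟨a, ha⟩ := exists_eq_mul_card (A := A) M x hx
    rw [← Ideal.Quotient.eq, map_mul, map_natCast] at ha
    rw [IntermediateField.mem_bot]
    refine ⟨Ideal.Quotient.mk P a / Ideal.Quotient.mk P (Nat.card (MulAction.stabilizer G M) : A), ?_⟩
    have hne : algebraMap (A ⧸ P) (B ⧸ M) (Ideal.Quotient.mk P (Nat.card (MulAction.stabilizer G M) : A)) ≠ 0 :=
      (map_ne_zero_iff _ (RingHom.injective _)).mpr fun h => hcard (Ideal.Quotient.eq_zero_iff_mem.mp h)
    rw [map_div₀, div_eq_iff hne]
    have h2 : algebraMap (A ⧸ P) (B ⧸ M) (Ideal.Quotient.mk P a) = Ideal.Quotient.mk M (algebraMap A B a) :=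
      Ideal.Quotient.algebraMap_mk_of_liesOver M P a
    rw [h2, ha, map_natCast, map_natCast, mul_comm]
  infer_instance

/-- The order of the decomposition group is the valuation of a norm from the base. -/
theorem exists_pow_card_eq (V : Type u) [CommRing V] [IsDomain V] [IsDiscreteValuationRing V] [Algebra B V]
    [IsLocalization.AtPrime V M] :
    ∃ a : A, maximalIdeal V ^ Nat.card (MulAction.stabilizer G M) =
      Ideal.span {algebraMap B V (algebraMap A B a)} := by
  classical
  haveI := Fintype.ofFinite G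
  obtain ⟨c, hc1, hc2⟩ := exists_conj_idempotent (G := G) M
  obtain ⟨ϖ, hϖ⟩ := IsDiscreteValuationRing.exists_irreducible V
  obtain ⟨⟨t₀, s⟩, ht₀⟩ := IsLocalization.surj M.primeCompl ϖ
  have hmem : ∀ b : B, algebraMap B V b ∈ maximalIdeal V ↔ b ∈ M := fun b =>
    IsLocalization.AtPrime.to_map_mem_maximal_iff V M b
  have hM2 : ∀ b : B, algebraMap B V b ∈ maximalIdeal V ^ 2 → b ∈ M ^ 2 := fun b hb => by
    rw [← IsLocalization.AtPrime.map_eq_maximalIdeal M V, ← Ideal.map_pow,
      IsLocalization.algebraMap_mem_map_algebraMap_iff M.primeCompl] at hb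
    obtain ⟨u, hu, hub⟩ := hb
    have hbM : b ∈ M := ((Ideal.IsMaximal.isPrime ‹M.IsMaximal›).mem_or_mem (Ideal.pow_le_self two_ne_zero hub)).resolve_left hu
    obtain ⟨d, m, hm, hdm⟩ := Ideal.IsMaximal.exists_inv ‹M.IsMaximal› hu
    rw [show b = d * (u * b) + m * b by linear_combination -b * hdm]
    exact (M ^ 2).add_mem ((M ^ 2).mul_mem_left _ hub) (by rw [pow_two]; exact Ideal.mul_mem_mul hm hbM)
  let t := t₀ * c + (1 - c) ^ 2
  have hcu : IsUnit (algebraMap B V c) := IsLocalization.map_units V (⟨c, fun h =>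
    Ideal.IsMaximal.ne_top ‹_› ((Ideal.eq_top_iff_one M).mpr (by simpa using M.sub_mem h hc1))⟩ : M.primeCompl)
  have h1c : (1 - c) ∈ M := by rw [← neg_sub]; exact M.neg_mem hc1
  have htmem : algebraMap B V t ∈ maximalIdeal V ∧ algebraMap B V t ∉ maximalIdeal V ^ 2 := by
    have h1 : algebraMap B V t₀ = ϖ * algebraMap B V s := ht₀.symm
    have h2 : algebraMap B V ((1 - c) ^ 2) ∈ maximalIdeal V ^ 2 := by
      rw [map_pow]; exact Ideal.pow_mem_pow ((hmem _).mpr h1c) 2
    have h3 : algebraMap B V (t₀ * c) ∈ maximalIdeal V := by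
      rw [map_mul, h1]; exact Ideal.mul_mem_right _ _ (Ideal.mul_mem_right _ _ hϖ.not_isUnit)
    refine ⟨by rw [map_add]; exact add_mem h3 (Ideal.pow_le_self two_ne_zero h2), fun h => ?_⟩
    rw [map_add, Submodule.add_mem_iff_left _ h2, map_mul, h1, mul_assoc,
      Ideal.mul_unit_mem_iff_mem _ ((IsLocalization.map_units V s).mul hcu), hϖ.maximalIdeal_eq,
      Ideal.span_singleton_pow, Ideal.mem_span_singleton] at h
    exact absurd ((pow_dvd_pow_iff hϖ.ne_zero hϖ.not_isUnit).mp (by simpa using h : ϖ ^ 2 ∣ ϖ ^ 1)) (by omega)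
  -- the value of each conjugate
  have hval : ∀ g : G, Ideal.span {algebraMap B V (g • t)} =
      if g • M = M then maximalIdeal V else ⊤ := fun g => by
    split_ifs with hg
    · have hg' : g⁻¹ • M = M := by rw [inv_smul_eq_iff]; exact hg.symm
      have a1 : algebraMap B V (g • t) ∈ maximalIdeal V := by
        rw [hmem, ← hg]
        exact Ideal.smul_mem_pointwise_smul g _ _ ((hmem t).mp htmem.1)
      have a2 : algebraMap B V (g • t) ∉ maximalIdeal V ^ 2 := fun h => htmem.2 (by
        have h' := hM2 _ h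
        have h'' : t ∈ g⁻¹ • (M ^ 2) := by simpa using Ideal.smul_mem_pointwise_smul g⁻¹ _ _ h'
        rw [smul_pow', hg'] at h''
        rw [← IsLocalization.AtPrime.map_eq_maximalIdeal M V, ← Ideal.map_pow]
        exact Ideal.mem_map_of_mem _ h'')
      rw [hϖ.maximalIdeal_eq] at a1
      obtain ⟨w, hw⟩ := Ideal.mem_span_singleton.mp a1
      have hwu : IsUnit w := by
        by_contra hwu
        exact a2 (by rw [hw, pow_two]; exact Ideal.mul_mem_mul hϖ.not_isUnit hwu)
      rw [hw, Ideal.span_singleton_mul_right_unit hwu, hϖ.maximalIdeal_eq]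
    · refine Ideal.span_singleton_eq_top.mpr (IsLocalization.map_units V (⟨g • t, fun hgt => ?_⟩ : M.primeCompl))
      have hg' : g⁻¹ • M ≠ M := fun h => hg (by rw [inv_smul_eq_iff] at h; exact h.symm)
      haveI : (g⁻¹ • M).IsMaximal := Ideal.map_isMaximal_of_equiv (p := M) (MulSemiringAction.toRingEquiv G B g⁻¹)
      have ht : t ∈ g⁻¹ • M := by simpa using Ideal.smul_mem_pointwise_smul g⁻¹ _ _ hgt
      have hc' := hc2 _ hg'
      have h' : (1 - c) ^ 2 ∈ g⁻¹ • M := by simpa [t] using (g⁻¹ • M).sub_mem ht ((g⁻¹ • M).mul_mem_left t₀ hc')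
      have h'' : (1 - c) ∈ g⁻¹ • M := (Ideal.IsMaximal.isPrime inferInstance).mem_of_pow_mem 2 h'
      exact Ideal.IsMaximal.ne_top (inferInstance : (g⁻¹ • M).IsMaximal)
        ((Ideal.eq_top_iff_one _).mpr (by simpa using (g⁻¹ • M).add_mem h'' hc'))
  have hinv : ∀ h : G, h • (∏ g : G, g • t) = ∏ g : G, g • t := fun h => by
    rw [Finset.smul_prod']
    simp_rw [smul_smul]
    exact Fintype.prod_equiv (Equiv.mulLeft h) _ _ fun _ => rfl
  obtain ⟨a, ha⟩ := Algebra.IsInvariant.isInvariant (A := A) _ hinv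
  refine ⟨a, ?_⟩
  rw [ha, map_prod, ← Ideal.prod_span_singleton, Finset.prod_congr rfl fun g _ => hval g,
    Finset.prod_ite, Finset.prod_const, Finset.prod_const, ← Ideal.one_eq_top, one_pow, mul_one,
    Nat.card_eq_fintype_card, Fintype.card_subtype]
  rfl

end Invariant

/-- Galois extensions of order prime to the residue characteristic are tamely ramified. -/
theorem isTamelyRamified_of_galois {A K L : Type u} [CommRing A] [IsDomain A] [IsDiscreteValuationRing A]
    [Field K] [Algebra A K] [IsFractionRing A K] [Field L] [Algebra K L] [FiniteDimensional K L] [IsGalois K L]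
    (hn : ((Nat.card (L ≃ₐ[K] L) : ℕ) : ResidueField A) ≠ 0) :
    EtRam.IsTamelyRamified A ((algebraMap K L).comp (algebraMap A K)) := by
  intro V h
  letI : Algebra A V := (RingHom.codRestrict ((algebraMap K L).comp (algebraMap A K)) V h.1).toAlgebra
  intro hloc
  obtain ⟨hd, hinjV, -⟩ := GrothLib.DVRExt.dominates_algebra A K L V h
  haveI := hd
  letI : Algebra A L := ((algebraMap K L).comp (algebraMap A K)).toAlgebra
  haveI : IsScalarTower A K L := IsScalarTower.of_algebraMap_eq fun _ => rfl
  haveI : IsScalarTower A V L := IsScalarTower.of_algebraMap_eq fun _ => rfl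
  let B := integralClosure A L
  haveI : IsDedekindDomain B := IsIntegralClosure.isDedekindDomain A K L _
  haveI : IsFractionRing B L := integralClosure.isFractionRing_of_finite_extension K L
  haveI : Module.Finite A B := IsIntegralClosure.finite A K L B
  letI := IsIntegralClosure.MulSemiringAction A K L B
  haveI := Algebra.isInvariant_of_isGalois A K L B
  haveI : SMulCommClass (L ≃ₐ[K] L) A B := ⟨fun σ a b => map_smul (galRestrict A K L B σ) a b⟩
  have hB : ∀ b : B, algebraMap B L b ∈ V := fun b => by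
    obtain ⟨v, hv⟩ := IsIntegrallyClosed.isIntegral_iff.mp (b.2.tower_top (A := V))
    show (b : L) ∈ V
    rw [← hv]; exact v.2
  letI aBV : Algebra B V := (RingHom.codRestrict (algebraMap B L) V hB).toAlgebra
  haveI : IsScalarTower A B V := IsScalarTower.of_algebraMap_eq fun a => Subtype.ext rfl
  let M : Ideal B := (maximalIdeal V).comap (algebraMap B V)
  haveI : M.IsPrime := Ideal.IsPrime.comap _
  have hMA : M.comap (algebraMap A B) = maximalIdeal A := by
    show Ideal.comap (algebraMap A B) (Ideal.comap (algebraMap B V) (maximalIdeal V)) = _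
    rw [Ideal.comap_comap, ← IsScalarTower.algebraMap_eq]
    exact ((local_hom_TFAE (algebraMap A V)).out 0 4 rfl rfl).mp inferInstance
  haveI : M.LiesOver (maximalIdeal A) := ⟨hMA.symm⟩
  haveI : Algebra.IsIntegral A B := Algebra.IsIntegral.of_finite A B
  haveI : M.IsMaximal := Ideal.isMaximal_of_isIntegral_of_isMaximal_comap (R := A) M (hMA ▸ maximalIdeal.isMaximal A)
  have hM0 : M ≠ ⊥ := fun h0 => by
    have : Ideal.comap (algebraMap A B) M = ⊥ := by
      rw [h0, ← RingHom.ker_eq_comap_bot]
      exact (RingHom.injective_iff_ker_eq_bot _).mp fun a b hab => hinjV (Subtype.ext (congrArg (fun z : B => (z : L)) hab))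
    exact IsDiscreteValuationRing.not_a_field A (hMA ▸ this)
  haveI := IsLocalization.AtPrime.isDiscreteValuationRing_of_dedekind_domain B hM0 (Localization.AtPrime M)
  haveI : IsLocalization.AtPrime V M := GrothLib.TameAbh21.isLocalization_center M V hB fun e =>
    (ValuationSubring.valuation_lt_one_iff V (algebraMap B V e)).symm
  have hdvd : Nat.card (MulAction.stabilizer (L ≃ₐ[K] L) M) ∣ Nat.card (L ≃ₐ[K] L) :=
    Subgroup.card_subgroup_dvd_card _
  have hD : (Nat.card (MulAction.stabilizer (L ≃ₐ[K] L) M) : A) ∉ maximalIdeal A := fun hcon => hn (by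
    obtain ⟨k, hk⟩ := hdvd
    rw [← map_natCast (residue A), residue_eq_zero_iff, hk, Nat.cast_mul]
    exact Ideal.mul_mem_right _ _ hcon)
  refine ⟨?_, fun p hp hcp hpe => ?_⟩
  · have hsep := isSeparable_quotient (A := A) (G := L ≃ₐ[K] L) M (P := maximalIdeal A) hD
    letI := Ideal.Quotient.field M
    letI : Field (A ⧸ maximalIdeal A) := Ideal.Quotient.field (maximalIdeal A)
    haveI := hsep
    exact Algebra.IsSeparable.of_equiv_equiv (A₁ := A ⧸ maximalIdeal A) (B₁ := B ⧸ M)
      (A₂ := ResidueField A) (B₂ := ResidueField V) (RingEquiv.refl _)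
      (IsLocalization.AtPrime.equivQuotMaximalIdeal M V) (RingHom.ext fun z => by
        obtain ⟨a, rfl⟩ := Ideal.Quotient.mk_surjective z
        rfl)
  · obtain ⟨a, ha⟩ := exists_pow_card_eq (A := A) (G := L ≃ₐ[K] L) M V
    obtain ⟨-, he⟩ := GrothLib.DVRExt.map_maximalIdeal_eq_pow (A := A) (B := V) hinjV
    have hav : algebraMap B V (algebraMap A B a) = algebraMap A V a := (IsScalarTower.algebraMap_apply A B V a).symm
    rw [hav] at ha
    have ha0 : a ≠ 0 := fun h0 => by
      rw [h0, map_zero, Ideal.span_singleton_eq_bot.mpr rfl] at ha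
      exact IsDiscreteValuationRing.not_a_field V (pow_eq_zero_iff'.mp ha).1
    obtain ⟨ϖ, hϖ⟩ := IsDiscreteValuationRing.exists_irreducible A
    obtain ⟨j, hj⟩ := IsDiscreteValuationRing.associated_pow_irreducible ha0 hϖ
    have hpow : maximalIdeal V ^ Nat.card (MulAction.stabilizer (L ≃ₐ[K] L) M) =
        maximalIdeal V ^ (Ideal.ramificationIdx' (maximalIdeal A) (maximalIdeal V) * j) := by
      rw [ha, pow_mul, ← he, ← Ideal.map_pow, hϖ.maximalIdeal_eq, Ideal.span_singleton_pow, Ideal.map_span,
        Set.image_singleton, Ideal.span_singleton_eq_span_singleton]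
      exact hj.map _
    have hp' : p ∣ Nat.card (L ≃ₐ[K] L) :=
      (hpe.trans (Dvd.intro j (GrothLib.DVRExt.maximalIdeal_pow_inj hpow).symm)).trans hdvd
    haveI := hcp
    exact hn ((CharP.cast_eq_zero_iff _ p _).mpr hp')

end GrothLib.TameGalois21
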