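import Groth.Prelude.Def_PiSp
import Groth.Prelude.Def_EtRam
import Mathlib.AlgebraicGeometry.Morphisms.FormallyUnramified
import Mathlib.AlgebraicGeometry.Morphisms.Etale
import Mathlib.AlgebraicGeometry.ResidueField
import Mathlib.FieldTheory.Galois.Basic
import Mathlib.GroupTheory.Index

/-!
Residue fields of Galois covers.
-/

set_option autoImplicit false
set_option linter.style.haveILetI false

universe u

open AlgebraicGeometry CategoryTheory

namespace GrothLib.TameGalois21

variable {X : Scheme.{u}} (Z : FEt.Cat X) (z : Z.left)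

/-- The morphism of a finite étale cover, with plain source and target. -/
noncomputable abbrev str : Z.left ⟶ X := Z.hom

theorem finite_residue' {Z X : Scheme.{u}} (z : Z) (f : Z ⟶ X) [Etale f] :
    (f.residueFieldMap z).hom.Finite := by
  letI : Algebra (X.presheaf.stalk (f z)) (Z.presheaf.stalk z) := (f.stalkMap z).hom.toAlgebra
  haveI : Algebra.EssFiniteType (X.presheaf.stalk (f z)) (Z.presheaf.stalk z) :=
    RingHom.essFiniteType_algebraMap.mp (LocallyOfFiniteType.stalkMap f z)
  haveI : IsLocalHom (algebraMap (X.presheaf.stalk (f z)) (Z.presheaf.stalk z)) :=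
    inferInstanceAs <| IsLocalHom (f.stalkMap z).hom
  haveI : Algebra.FormallyUnramified (X.presheaf.stalk (f z)) (Z.presheaf.stalk z) :=
    RingHom.formallyUnramified_algebraMap.mp (FormallyUnramified.stalkMap f z)
  have h : Module.Finite (IsLocalRing.ResidueField (X.presheaf.stalk (f z)))
      (IsLocalRing.ResidueField (Z.presheaf.stalk z)) := inferInstance
  letI : Algebra (X.residueField (f z)) (Z.residueField z) := (f.residueFieldMap z).hom.toAlgebra
  show Module.Finite (X.residueField (f z)) (Z.residueField z)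
  have heq : ∀ x : IsLocalRing.ResidueField (X.presheaf.stalk (f z)),
      algebraMap (IsLocalRing.ResidueField (X.presheaf.stalk (f z)))
        (IsLocalRing.ResidueField (Z.presheaf.stalk z)) x = (f.residueFieldMap z).hom x := fun x => by
    obtain ⟨x, rfl⟩ := IsLocalRing.residue_surjective x
    rfl
  haveI := h
  refine Module.Finite.of_equiv_equiv (A₁ := IsLocalRing.ResidueField (X.presheaf.stalk (f z)))
    (B₁ := IsLocalRing.ResidueField (Z.presheaf.stalk z)) (RingEquiv.refl _) (RingEquiv.refl _)
    (RingHom.ext fun x => ?_)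
  exact (heq x).symm

theorem finite_residue (f : Z.left ⟶ X) [Etale f] :
    (f.residueFieldMap z).hom.Finite :=
  finite_residue' z f

/-- The residue extensions of an étale scheme with a group acting transitively on geometric fibres. -/
theorem exists_galois_of_action {Z X : Scheme.{u}} (z : Z) (f : Z ⟶ X) [Etale f] {Γ₀ : Type*} [Group Γ₀]
    (act : Γ₀ → (Z ⟶ Z)) (hact₁ : act 1 = 𝟙 Z) (hactm : ∀ a b, act (a * b) = act b ≫ act a)
    (hactf : ∀ a, act a ≫ f = f)
    (htrans : ∀ (Ω : Type u) [Field Ω] [IsAlgClosed Ω] (s t : Spec (CommRingCat.of Ω) ⟶ Z), s ≫ f = t ≫ f →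
      ∃ σ : Γ₀, s ≫ act σ = t) :
    letI := (f.residueFieldMap z).hom.toAlgebra
    FiniteDimensional (X.residueField (f z)) (Z.residueField z) ∧
    IsGalois (X.residueField (f z)) (Z.residueField z) ∧
      Nat.card (Z.residueField z ≃ₐ[X.residueField (f z)] Z.residueField z) ∣ Nat.card Γ₀ := by
  letI : Algebra (X.residueField (f z)) (Z.residueField z) := (f.residueFieldMap z).hom.toAlgebra
  haveI hfin : FiniteDimensional (X.residueField (f z)) (Z.residueField z) := finite_residue' z f
  haveI hsep : Algebra.IsSeparable (X.residueField (f z)) (Z.residueField z) := inferInstance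
  let Ω := AlgebraicClosure (Z.residueField z)
  let ι : Z.residueField z →+* Ω := algebraMap _ Ω
  let s₀ : Spec (CommRingCat.of Ω) ⟶ Z :=
    Spec.map (CommRingCat.ofHom ι) ≫ Z.fromSpecResidueField z
  let G : Subgroup Γ₀ :=
    { carrier := {σ | act σ z = z}
      one_mem' := by show act 1 z = z; rw [hact₁]; rfl
      mul_mem' := fun {a b} ha hb => by
        show act (a * b) z = z
        rw [hactm]
        show act a (act b z) = z
        rw [show act b z = z from hb]; exact ha
      inv_mem' := fun {a} ha => by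
        show act a⁻¹ z = z
        have h1 : act a⁻¹ (act a z) = z := by
          show (act a ≫ act a⁻¹) z = z
          rw [← hactm, inv_mul_cancel, hact₁]; rfl
        rwa [show act a z = z from ha] at h1 }
  -- the automorphism of the residue field attached to an element of `G`
  have hex : ∀ σ : G, ∃ e : Z.residueField z →ₐ[X.residueField (f z)] Z.residueField z,
      Spec.map (CommRingCat.ofHom e.toRingHom) ≫ Z.fromSpecResidueField z =
        Z.fromSpecResidueField z ≫ (act σ.1) := by
    intro σ
    have hσ : (act σ.1) z = z := σ.2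
    let e₀ : Z.residueField z ⟶ Z.residueField z :=
      (Z.residueFieldCongr hσ).inv ≫ (act σ.1).residueFieldMap z
    have he₀ : Spec.map e₀ ≫ Z.fromSpecResidueField z =
        Z.fromSpecResidueField z ≫ (act σ.1) := by
      rw [Spec.map_comp, Category.assoc, ← Scheme.Hom.SpecMap_residueFieldMap_fromSpecResidueField]
      congr 1
      exact Scheme.residueFieldCongr_fromSpecResidueField hσ.symm
    have hw : (act σ.1) ≫ f = f := hactf σ.1
    have hcomm : f.residueFieldMap z ≫ e₀ = f.residueFieldMap z := by
      refine Spec.map_injective ((cancel_mono (X.fromSpecResidueField (f z))).mp ?_)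
      rw [Spec.map_comp, Category.assoc, Scheme.Hom.SpecMap_residueFieldMap_fromSpecResidueField, reassoc_of% he₀, hw]
    exact ⟨{ e₀.hom with commutes' := fun a => congr($(congrArg CommRingCat.Hom.hom hcomm) a) }, he₀⟩
  choose e he using hex
  have huniq : ∀ e₁ e₂ : Z.residueField z →ₐ[X.residueField (f z)] Z.residueField z,
      Spec.map (CommRingCat.ofHom e₁.toRingHom) ≫ Z.fromSpecResidueField z =
        Spec.map (CommRingCat.ofHom e₂.toRingHom) ≫ Z.fromSpecResidueField z → e₁ = e₂ := fun e₁ e₂ h => by
    have := Spec.map_injective ((cancel_mono (Z.fromSpecResidueField z)).mp h)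
    exact AlgHom.coe_ringHom_injective (congrArg CommRingCat.Hom.hom this)
  -- every embedding comes from `G`
  have hemb : ∀ ρ : Z.residueField z →+* Ω, ρ.comp (f.residueFieldMap z).hom = ι.comp (f.residueFieldMap z).hom →
      ∃ σ : G, ι.comp (e σ).toRingHom = ρ := by
    intro ρ hρ
    let t₀ : Spec (CommRingCat.of Ω) ⟶ Z :=
      Spec.map (CommRingCat.ofHom ρ) ≫ Z.fromSpecResidueField z
    have hw : ∀ φ : Z.residueField z →+* Ω, (Spec.map (CommRingCat.ofHom φ) ≫ Z.fromSpecResidueField z) ≫ f =
        Spec.map (CommRingCat.ofHom (φ.comp (f.residueFieldMap z).hom)) ≫ X.fromSpecResidueField (f z) := fun φ => by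
      rw [Category.assoc, ← Scheme.Hom.SpecMap_residueFieldMap_fromSpecResidueField, ← Spec.map_comp_assoc]
      rfl
    obtain ⟨σ, hst⟩ := htrans Ω s₀ t₀ (by rw [hw, hw, hρ])
    have hpt : (act σ) z = z := by
      have h := congrArg (fun φ : Spec (CommRingCat.of Ω) ⟶ Z => φ (IsLocalRing.closedPoint Ω)) hst
      have h1 : (s₀ ≫ (act σ)) (IsLocalRing.closedPoint Ω) = (act σ) z :=
        congrArg (act σ) (Scheme.fromSpecResidueField_apply z _)
      have h2 : t₀ (IsLocalRing.closedPoint Ω) = z := Scheme.fromSpecResidueField_apply z _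
      exact h1.symm.trans (h.trans h2)
    refine ⟨⟨σ, hpt⟩, ?_⟩
    have h2 : Spec.map (CommRingCat.ofHom (ι.comp (e ⟨σ, hpt⟩).toRingHom)) ≫ Z.fromSpecResidueField z = t₀ := by
      rw [CommRingCat.ofHom_comp, Spec.map_comp, Category.assoc, he, ← Category.assoc]
      exact hst
    exact congrArg CommRingCat.Hom.hom (Spec.map_injective ((cancel_mono (Z.fromSpecResidueField z)).mp h2))
  letI : Algebra (X.residueField (f z)) Ω := (ι.comp (f.residueFieldMap z).hom).toAlgebra
  have hfix : ∀ w : Z.residueField z, (∀ σ : G, e σ w = w) →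
      w ∈ Set.range (algebraMap (X.residueField (f z)) (Z.residueField z)) := fun w hw => by
    have hsub : (minpoly (X.residueField (f z)) w).rootSet Ω ⊆ {ι w} := by
      rw [← Algebra.IsAlgebraic.range_eval_eq_rootSet_minpoly]
      rintro _ ⟨ρ, rfl⟩
      obtain ⟨σ, hσ⟩ := hemb ρ.toRingHom (RingHom.ext fun a => ρ.commutes a)
      show ρ w = ι w
      exact (RingHom.congr_fun hσ w).symm.trans (congrArg ι (hw σ))
    have hcard : Fintype.card ((minpoly (X.residueField (f z)) w).rootSet Ω) =
        (minpoly (X.residueField (f z)) w).natDegree :=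
      Polynomial.card_rootSet_eq_natDegree (Algebra.IsSeparable.isSeparable _ w) (IsAlgClosed.splits _)
    have h1 : (minpoly (X.residueField (f z)) w).natDegree ≤ 1 := by
      rw [← hcard, ← Set.toFinset_card]
      exact Finset.card_le_one.mpr fun a ha b hb =>
        (hsub (Set.mem_toFinset.mp ha)).trans (hsub (Set.mem_toFinset.mp hb)).symm
    exact minpoly.natDegree_eq_one_iff.mp
      (le_antisymm h1 (minpoly.natDegree_pos (Algebra.IsIntegral.isIntegral w)))
  have hgal : IsGalois (X.residueField (f z)) (Z.residueField z) := by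
    refine IsGalois.of_fixedField_eq_bot _ _ (eq_bot_iff.mpr fun w hw => IntermediateField.mem_bot.mpr ?_)
    exact hfix w fun σ => hw ⟨AlgEquiv.ofBijective (e σ) ((e σ).bijective), trivial⟩
  have hanti : ∀ a b : G, e (a * b) = (e b).comp (e a) := fun a b => huniq _ _ (by
    rw [he]
    show Z.fromSpecResidueField z ≫ act (a.1 * b.1) =
      Spec.map (CommRingCat.ofHom (e a).toRingHom ≫ CommRingCat.ofHom (e b).toRingHom) ≫ Z.fromSpecResidueField z
    rw [Spec.map_comp, Category.assoc, he, ← Category.assoc, he, Category.assoc, hactm])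
  have hone : e 1 = AlgHom.id _ _ := huniq _ _ (by
    rw [he]
    show Z.fromSpecResidueField z ≫ act 1 = Spec.map (𝟙 _) ≫ Z.fromSpecResidueField z
    rw [hact₁, Spec.map_id, Category.id_comp]
    exact Category.comp_id _)
  let θ : G →* (Z.residueField z ≃ₐ[X.residueField (f z)] Z.residueField z) :=
    { toFun := fun σ => AlgEquiv.ofBijective (e σ⁻¹) ((e σ⁻¹).bijective)
      map_one' := AlgEquiv.ext fun a => by
        show e 1⁻¹ a = a
        rw [inv_one, hone]; rfl
      map_mul' := fun a b => AlgEquiv.ext fun x => by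
        show e (a * b)⁻¹ x = e a⁻¹ (e b⁻¹ x)
        rw [mul_inv_rev, hanti]; rfl }
  have hθ : Function.Surjective θ := fun τ => by
    obtain ⟨σ, hσ⟩ := hemb (ι.comp τ.toAlgHom.toRingHom) (RingHom.ext fun a => congrArg ι (τ.commutes a))
    refine ⟨σ⁻¹, AlgEquiv.ext fun x => ?_⟩
    show e σ⁻¹⁻¹ x = τ x
    rw [inv_inv]
    exact ι.injective (RingHom.congr_fun hσ x)
  exact ⟨hfin, hgal, (Subgroup.card_dvd_of_surjective θ hθ).trans (Subgroup.card_subgroup_dvd_card G)⟩

theorem exists_galois [Etale (str Z)] (hZ : PiSp.IsGaloisCover Z) :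
    letI := ((str Z).residueFieldMap z).hom.toAlgebra
    FiniteDimensional (X.residueField (str Z z)) (Z.left.residueField z) ∧
    IsGalois (X.residueField (str Z z)) (Z.left.residueField z) ∧
      Nat.card (Z.left.residueField z ≃ₐ[X.residueField (str Z z)] Z.left.residueField z) ∣ Nat.card (Aut Z) :=
  exists_galois_of_action z (str Z) (fun σ : Aut Z => σ.hom.left) rfl
    (fun _ _ => rfl) (fun σ => MorphismProperty.Over.w σ.hom) fun Ω _ _ s t h => by
      obtain ⟨σ, hσ⟩ := hZ.2 Ω (s ≫ str Z) ⟨s, rfl⟩ ⟨t, h.symm⟩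
      exact ⟨σ, congrArg Subtype.val hσ⟩

end GrothLib.TameGalois21
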