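import Groth.Agent.Lib.TameGalois21.Basic
import Groth.Agent.Lib.TameGalois21.Scheme
import Mathlib.AlgebraicGeometry.ValuativeCriterion

/-!
Finite étale covers of proper schemes are unramified at every valuation.
-/

set_option autoImplicit false
set_option linter.style.haveILetI false

universe u

open AlgebraicGeometry CategoryTheory CategoryTheory.Limits IsLocalRing

namespace GrothLib.TameGalois21

/-- An extension generated by a finite étale algebra is tamely ramified. -/
theorem isTamelyRamified_of_finite_etale {A K L : Type u} [CommRing A] [IsDomain A] [IsDiscreteValuationRing A]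
    [Field K] [Algebra A K] [IsFractionRing A K] [Field L] [Algebra K L] [FiniteDimensional K L]
    [Algebra.IsSeparable K L] {E : Type u} [CommRing E] [Algebra A E] [Module.Finite A E] [Algebra.Etale A E]
    (θ : E →+* L) (hθ : ∀ a, θ (algebraMap A E a) = algebraMap K L (algebraMap A K a))
    (hgen : IntermediateField.adjoin K (Set.range θ) = ⊤) :
    EtRam.IsTamelyRamified A ((algebraMap K L).comp (algebraMap A K)) := by
  intro V h
  letI : Algebra A V := (RingHom.codRestrict ((algebraMap K L).comp (algebraMap A K)) V h.1).toAlgebra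
  intro hloc
  obtain ⟨hd, hinjV, -⟩ := GrothLib.DVRExt.dominates_algebra A K L V h
  haveI := hd
  letI : Algebra A L := ((algebraMap K L).comp (algebraMap A K)).toAlgebra
  haveI : IsScalarTower A K L := IsScalarTower.of_algebraMap_eq fun _ => rfl
  haveI : IsScalarTower A V L := IsScalarTower.of_algebraMap_eq fun _ => rfl
  let θA : E →ₐ[A] L := { θ with commutes' := hθ }
  let R := θA.range
  haveI : Module.Finite A R := Module.Finite.of_surjective θA.rangeRestrict.toLinearMap θA.rangeRestrict_surjective
  haveI : Algebra.FormallyUnramified A R :=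
    Algebra.FormallyUnramified.of_surjective θA.rangeRestrict θA.rangeRestrict_surjective
  haveI : IsNoetherianRing R := IsNoetherianRing.of_finite A R
  haveI : Algebra.IsIntegral A R := Algebra.IsIntegral.of_finite A R
  haveI : IsFractionRing R L := by
    refine IsFractionRing.of_field R L fun z => ?_
    have hz : z ∈ Algebra.adjoin K (Set.range θ) := by
      rw [← IntermediateField.adjoin_toSubalgebra_of_isAlgebraic (fun x _ => Algebra.IsAlgebraic.isAlgebraic x), hgen]
      exact IntermediateField.mem_top
    have key : ∀ t ∈ Algebra.adjoin K (Set.range θ), ∃ (c : A) (a : R), c ≠ 0 ∧ t * algebraMap A L c = a := by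
      intro t ht
      induction ht using Algebra.adjoin_induction with
      | mem t ht =>
        obtain ⟨e, rfl⟩ := ht
        exact ⟨1, ⟨θ e, e, rfl⟩, one_ne_zero, by rw [map_one, mul_one]⟩
      | algebraMap c =>
        obtain ⟨a, b, hb, rfl⟩ := IsFractionRing.div_surjective A c
        refine ⟨b, algebraMap A R a, nonZeroDivisors.ne_zero hb, ?_⟩
        show algebraMap K L (algebraMap A K a / algebraMap A K b) * algebraMap A L b = algebraMap A L a
        rw [IsScalarTower.algebraMap_apply A K L, IsScalarTower.algebraMap_apply A K L, ← map_mul,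
          div_mul_cancel₀ _ ((map_ne_zero_iff _ (IsFractionRing.injective A K)).mpr (nonZeroDivisors.ne_zero hb))]
      | add t₁ t₂ _ _ h1 h2 =>
        obtain ⟨c₁, a₁, hc₁, e₁⟩ := h1
        obtain ⟨c₂, a₂, hc₂, e₂⟩ := h2
        refine ⟨c₁ * c₂, a₁ * algebraMap A R c₂ + a₂ * algebraMap A R c₁, mul_ne_zero hc₁ hc₂, ?_⟩
        show (t₁ + t₂) * algebraMap A L (c₁ * c₂) = (a₁ : L) * algebraMap A L c₂ + (a₂ : L) * algebraMap A L c₁
        rw [← e₁, ← e₂, map_mul]; ring
      | mul t₁ t₂ _ _ h1 h2 =>
        obtain ⟨c₁, a₁, hc₁, e₁⟩ := h1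
        obtain ⟨c₂, a₂, hc₂, e₂⟩ := h2
        refine ⟨c₁ * c₂, a₁ * a₂, mul_ne_zero hc₁ hc₂, ?_⟩
        show t₁ * t₂ * algebraMap A L (c₁ * c₂) = (a₁ : L) * (a₂ : L)
        rw [← e₁, ← e₂, map_mul]; ring
    obtain ⟨c, a, hc, e⟩ := key z hz
    have hc0 : algebraMap A L c ≠ 0 := by
      rw [IsScalarTower.algebraMap_apply A K L, map_ne_zero]
      exact (map_ne_zero_iff _ (IsFractionRing.injective A K)).mpr hc
    refine ⟨a, algebraMap A R c, ?_⟩
    show z = (a : L) / algebraMap A L c
    rw [← e, mul_div_cancel_right₀ _ hc0]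
  have hR : ∀ x : R, algebraMap R L x ∈ V := fun x => by
    obtain ⟨v, hv⟩ := IsIntegrallyClosed.isIntegral_iff.mp
      (((Algebra.IsIntegral.isIntegral (R := A) x).map R.val).tower_top (A := V))
    show (x : L) ∈ V
    rw [show (x : L) = algebraMap V L v from hv.symm]; exact v.2
  letI aRV : Algebra R V := (RingHom.codRestrict (algebraMap R L) V hR).toAlgebra
  haveI : IsScalarTower A R V := IsScalarTower.of_algebraMap_eq fun a => Subtype.ext rfl
  let Q : Ideal R := (maximalIdeal V).comap (algebraMap R V)
  haveI : Q.IsPrime := Ideal.IsPrime.comap _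
  have hQA : Q.comap (algebraMap A R) = maximalIdeal A := by
    show Ideal.comap (algebraMap A R) (Ideal.comap (algebraMap R V) (maximalIdeal V)) = _
    rw [Ideal.comap_comap, ← IsScalarTower.algebraMap_eq]
    exact ((local_hom_TFAE (algebraMap A V)).out 0 4 rfl rfl).mp inferInstance
  haveI : IsLocalHom (algebraMap A (Localization.AtPrime Q)) := ⟨fun a ha => by
    by_contra hna
    have h1 : algebraMap A R a ∈ Q := by
      show a ∈ Q.comap (algebraMap A R)
      rw [hQA]; exact hna
    rw [IsScalarTower.algebraMap_apply A R (Localization.AtPrime Q)] at ha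
    exact ((IsLocalization.AtPrime.to_map_mem_maximal_iff (Localization.AtPrime Q) Q _).mpr h1) ha⟩
  haveI : Algebra.EssFiniteType R (Localization.AtPrime Q) :=
    Algebra.EssFiniteType.of_isLocalization _ Q.primeCompl
  haveI : Algebra.EssFiniteType A (Localization.AtPrime Q) := Algebra.EssFiniteType.comp A R _
  haveI : Algebra.FormallyUnramified R (Localization.AtPrime Q) :=
    Algebra.FormallyUnramified.of_isLocalization Q.primeCompl
  haveI : Algebra.FormallyUnramified A (Localization.AtPrime Q) := Algebra.FormallyUnramified.comp A R _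
  have hmax : (maximalIdeal A).map (algebraMap A (Localization.AtPrime Q)) = maximalIdeal (Localization.AtPrime Q) :=
    ((Algebra.FormallyUnramified.iff_map_maximalIdeal_eq (R := A) (S := Localization.AtPrime Q)).mp inferInstance).2
  obtain ⟨ϖ, hϖ⟩ := IsDiscreteValuationRing.exists_irreducible A
  have hprinc : (maximalIdeal (Localization.AtPrime Q)).IsPrincipal :=
    ⟨algebraMap A _ ϖ, by rw [← hmax, hϖ.maximalIdeal_eq, Ideal.map_span, Set.image_singleton]⟩
  have hnf : ¬ IsField (Localization.AtPrime Q) := fun hF => by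
    have h0 : Q = ⊥ := by
      rw [← IsLocalization.AtPrime.under_maximalIdeal (Localization.AtPrime Q) Q,
        (IsLocalRing.isField_iff_maximalIdeal_eq).mp hF, Ideal.under_def, ← RingHom.ker_eq_comap_bot]
      exact (RingHom.injective_iff_ker_eq_bot _).mp
        (IsLocalization.injective _ Q.primeCompl_le_nonZeroDivisors)
    refine IsDiscreteValuationRing.not_a_field A (hQA ▸ ?_)
    rw [h0, ← RingHom.ker_eq_comap_bot, ← RingHom.injective_iff_ker_eq_bot]
    exact fun a b hab => hinjV (Subtype.ext (congrArg (fun z : R => (z : L)) hab))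
  haveI : IsDiscreteValuationRing (Localization.AtPrime Q) :=
    ((IsDiscreteValuationRing.TFAE (Localization.AtPrime Q) hnf).out 0 4).mpr hprinc
  haveI : IsLocalization.AtPrime V Q := GrothLib.TameAbh21.isLocalization_center Q V hR fun e =>
    (ValuationSubring.valuation_lt_one_iff V (algebraMap R V e)).symm
  haveI : Algebra.EssFiniteType R V := Algebra.EssFiniteType.of_isLocalization V Q.primeCompl
  haveI : Algebra.EssFiniteType A V := Algebra.EssFiniteType.comp A R V
  haveI : Algebra.FormallyUnramified R V := Algebra.FormallyUnramified.of_isLocalization Q.primeCompl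
  haveI : Algebra.FormallyUnramified A V := Algebra.FormallyUnramified.comp A R V
  obtain ⟨hsep, hm⟩ := (Algebra.FormallyUnramified.iff_map_maximalIdeal_eq (R := A) (S := V)).mp inferInstance
  refine ⟨hsep, fun p hp _ hpe => ?_⟩
  obtain ⟨-, he⟩ := GrothLib.DVRExt.map_maximalIdeal_eq_pow (A := A) (B := V) hinjV
  have h1 : Ideal.ramificationIdx' (maximalIdeal A) (maximalIdeal V) = 1 :=
    GrothLib.DVRExt.maximalIdeal_pow_inj (B := V) (by rw [← he, pow_one]; exact hm)
  rw [h1] at hpe
  exact hp.one_lt.ne' (Nat.dvd_one.mp hpe)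

end GrothLib.TameGalois21
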